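import Cfsg.Agent.H383.Cov.PlusC
import Cfsg.Agent.H93.CJ.Pi_m3
import Cfsg.Agent.ETable.OrthBase
import Cfsg.Agent.H890.SpParity
import Cfsg.Agent.H160.QDisc
import Cfsg.Agent.H377.OddThree_m3
import Cfsg.Agent.Prune
set_option linter.all false
prune_inst 0x7f00000000000000000000000000000000000000000000000000000000000000000000000000000000000000000000000000000000000000000000000000000000000000000000000000000000000000003ffffffffcffffffffffffffffffbeffbdffffffff
open scoped Cfsg.Agent.FastGrp

-- part: H93/CJ/Torus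
section
/-!
# The torus of order `q ^ k + 1` on a space of dimension `2k` of minus type (for S4792)

`exists_torus` : a field `L` of degree `2k` over `F`, a form `Q` on `L` and `u ∈ L` with `Q (u v) = Q v` such that
the `F`-linear maps commuting with the multiplication by `u ^ 2` are the multiplications.
-/

set_option autoImplicit false

namespace Cfsg.Agent.H93.CJ

open QuadraticMap Cfsg.Agent.LieClassical.OrthCore Cfsg.Agent.LieClassical.OrthForms
open Cfsg.Agent.H93.PReg Cfsg.Agent.H93.PReg.Orth Cfsg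
open Cfsg.Agent.H182.Sign Cfsg.Agent.H182.Orth

/-- proper divisors of `2k` -/
theorem arith {q k j : ℕ} (hq : 2 ≤ q) (hk : 2 ≤ k) (hj : j ∣ 2 * k) (h : q ^ k + 1 ∣ 2 * (q ^ j - 1)) : j = 2 * k := by
  by_contra hne
  obtain ⟨c, hc⟩ := hj
  have hj0 : 0 < j := by
    rcases Nat.eq_zero_or_pos j with rfl | h0
    · omega
    · exact h0
  have hc2 : 2 ≤ c := by
    rcases c with _ | _ | c
    · omega
    · exact absurd (by omega : j = 2 * k) hne
    · omega
  have hjk : j ≤ k := by nlinarith only [hc, hc2]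
  have h1 : q ^ j ≤ q ^ k := Nat.pow_le_pow_right (by omega) hjk
  have h2 : 2 ≤ q ^ j := hq.trans (Nat.le_self_pow hj0.ne' q)
  obtain ⟨d, hd⟩ := h
  have hd1 : d = 1 := by
    have : d < 2 := by
      by_contra h3
      have : (q ^ k + 1) * 2 ≤ (q ^ k + 1) * d := Nat.mul_le_mul_left _ (by omega)
      omega
    rcases d with _ | _ | d
    · omega
    · rfl
    · omega
  rw [hd1, mul_one] at hd
  have h3 : q ^ k + 3 = 2 * q ^ j := by omega
  have h4 : q ^ j ∣ 3 := by
    have h5 : q ^ j ∣ q ^ k := pow_dvd_pow q hjk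
    exact (Nat.dvd_add_right h5).1 (h3 ▸ Dvd.intro_left 2 rfl)
  have h5 : q ^ j = 3 := by
    rcases (Nat.dvd_prime Nat.prime_three).1 h4 with h | h
    · omega
    · exact h
  have h6 : q ^ k = 3 := by omega
  have h7 : q ^ 2 ≤ q ^ k := Nat.pow_le_pow_right (by omega) hk
  nlinarith only [hq, h3, h5, h7]

theorem exists_torus (F : Type) [Field F] [Fintype F] {k : ℕ} (hk : 2 ≤ k) :
    ∃ (L : Type) (_ : Field L) (_ : Algebra F L) (_ : Finite L) (Q : QuadraticForm F L) (u : L),
      Sg Q k (-1) ∧ u ≠ 0 ∧ (∀ v, Q (u * v) = Q v) ∧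
      (∀ φ : L →ₗ[F] L, (∀ v, φ (u * u * v) = u * u * φ v) → ∃ s : L, ∀ v, φ v = s * v) ∧
      (∀ a : F, u * u ≠ algebraMap F L a) ∧ ∀ a : F, ∃ v : L, v ≠ 0 ∧ Q v = a := by
  obtain ⟨K, _, _, b, hKf, -, hK, -⟩ := Singer.exists_ext F k (by omega)
  have := Fintype.ofFinite K
  obtain ⟨L, _, _, b', hLf, g, hL, hg⟩ := Singer.exists_ext K 2 two_ne_zero
  let _ : Algebra F L := ((algebraMap K L).comp (algebraMap F K)).toAlgebra
  have : IsScalarTower F K L := IsScalarTower.of_algebraMap_eq fun _ => rfl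
  have hKc : Fintype.card K = Fintype.card F ^ k := by rw [← hK, Nat.card_eq_fintype_card]
  have hq : 2 ≤ Fintype.card K := Fintype.one_lt_card
  have hqF : 2 ≤ Fintype.card F := Fintype.one_lt_card
  have hrk : Module.finrank F K = k := by rw [Module.finrank_eq_card_basis b, Fintype.card_fin]
  have hs := (sg_normQ b').res (F := F)
  rw [hrk, mul_one] at hs
  have hfK : FiniteDimensional F K := Module.Finite.of_basis b
  have hfL : FiniteDimensional K L := Module.Finite.of_basis b'
  have hfFL : FiniteDimensional F L := FiniteDimensional.trans F K L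
  have hnorm : Algebra.norm K ((g : L) ^ (Fintype.card K - 1)) = 1 := by
    rw [map_pow]
    apply FiniteField.pow_card_sub_one_eq_one
    rw [Ne, Algebra.norm_eq_zero_iff_of_basis b']
    exact g.ne_zero
  have ho : orderOf ((g : L) ^ (Fintype.card K - 1)) = Fintype.card F ^ k + 1 := by
    rw [← Units.val_pow_eq_pow_val, orderOf_units, orderOf_pow_of_dvd (by omega), hg, ← hKc]
    · have h1 : Fintype.card K ^ 2 - 1 = (Fintype.card K + 1) * (Fintype.card K - 1) := by
        have := Nat.sq_sub_sq (Fintype.card K) 1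
        simpa only [_root_.one_pow] using this
      rw [h1, Nat.mul_div_cancel _ (by omega)]
    · rw [hg]
      simpa only [_root_.one_pow] using Nat.sub_dvd_pow_sub_pow (Fintype.card K) 1 2
  set u : L := (g : L) ^ (Fintype.card K - 1) with hu
  have hu0 : u ≠ 0 := pow_ne_zero _ g.ne_zero
  have hadj : IntermediateField.adjoin F ({u * u} : Set L) = ⊤ := by
    set E := IntermediateField.adjoin F ({u * u} : Set L) with hE
    have hmem : u * u ∈ E := IntermediateField.mem_adjoin_simple_self F _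
    have hdvd : Module.finrank F E ∣ 2 * k := by
      have h1 := Module.finrank_mul_finrank F E L
      have h2 : Module.finrank F L = 2 * k := hs.dim
      exact ⟨_, by rw [h1, h2]⟩
    have hcE : Nat.card E = Fintype.card F ^ Module.finrank F E := by
      rw [← Nat.card_eq_fintype_card]
      exact Module.natCard_eq_pow_finrank (K := F) (V := E)
    have hpow : (u * u) ^ (Nat.card E - 1) = 1 := by
      have : Fintype E := Fintype.ofFinite E
      have h1 := FiniteField.pow_card_sub_one_eq_one (⟨u * u, hmem⟩ : E) (by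
        intro h0
        exact mul_ne_zero hu0 hu0 (congrArg Subtype.val h0))
      rw [Nat.card_eq_fintype_card]
      exact congrArg Subtype.val h1
    have h3 : Fintype.card F ^ k + 1 ∣ 2 * (Fintype.card F ^ Module.finrank F E - 1) := by
      rw [← ho, ← hcE]
      apply orderOf_dvd_of_pow_eq_one
      rw [pow_mul, pow_two]
      exact hpow
    have h4 := arith hqF hk hdvd h3
    exact IntermediateField.eq_of_le_of_finrank_eq le_top (by rw [IntermediateField.finrank_top', h4, hs.dim])
  refine ⟨L, inferInstance, inferInstance, inferInstance, traceForm F (normQ b'), u, hs, hu0, ?_, ?_, ?_, ?_⟩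
  · intro v
    rw [traceForm_apply, traceForm_apply]
    congr 1
    rw [normQ_apply, normQ_apply, map_mul, hnorm, one_mul]
  · intro φ hφ
    refine ⟨φ 1, fun v => ?_⟩
    let S : Subalgebra F L :=
      { carrier := {a | ∀ v, φ (a * v) = a * φ v}
        mul_mem' := by
          intro a c ha hc v
          rw [mul_assoc, ha, hc, mul_assoc]
        add_mem' := by
          intro a c ha hc v
          rw [add_mul, map_add, ha, hc, add_mul]
        algebraMap_mem' := by
          intro r v
          rw [← Algebra.smul_def, map_smul, Algebra.smul_def] }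
    have h1 : Algebra.adjoin F ({u * u} : Set L) ≤ S := by
      apply Algebra.adjoin_le
      intro a ha
      rw [Set.mem_singleton_iff.1 ha]
      exact hφ
    have h2 : Algebra.adjoin F ({u * u} : Set L) = ⊤ := by
      rw [← IntermediateField.adjoin_simple_toSubalgebra_of_isAlgebraic (IsAlgebraic.of_finite F (u * u)), hadj]
      rfl
    have h3 : v ∈ S := h1 (h2 ▸ Algebra.mem_top)
    have h4 := h3 1
    rw [mul_one] at h4
    rw [h4, mul_comm]
  · intro a ha
    have h1 : IntermediateField.adjoin F ({u * u} : Set L) = ⊥ := by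
      rw [IntermediateField.adjoin_simple_eq_bot_iff, IntermediateField.mem_bot]
      exact ⟨a, ha.symm⟩
    have h2 := congrArg (fun E : IntermediateField F L => Module.finrank F E) (hadj.symm.trans h1)
    simp only [IntermediateField.finrank_top', IntermediateField.finrank_bot] at h2
    have h3 : Module.finrank F L = 2 * k := hs.dim
    omega
  · intro a
    obtain ⟨x, hx, hxa⟩ : ∃ x : K, x ≠ 0 ∧ Algebra.trace F K x = a := by
      by_cases ha : a = 0
      · subst ha
        have h1 : LinearMap.ker (Algebra.trace F K) ≠ ⊥ := by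
          intro h0
          have h2 := LinearMap.finrank_range_add_finrank_ker (Algebra.trace F K)
          rw [h0, finrank_bot, add_zero, hrk] at h2
          have h3 := Submodule.finrank_le (LinearMap.range (Algebra.trace F K))
          rw [Module.finrank_self] at h3
          omega
        obtain ⟨x, hx, hx0⟩ := (Submodule.ne_bot_iff _).1 h1
        exact ⟨x, hx0, hx⟩
      · obtain ⟨x, hx⟩ := Algebra.trace_surjective F K a
        refine ⟨x, ?_, hx⟩
        rintro rfl
        rw [map_zero] at hx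
        exact ha hx.symm
    obtain ⟨v, hv⟩ := FiniteField.norm_surjective K L x
    refine ⟨v, ?_, ?_⟩
    · rintro rfl
      rw [Algebra.norm_zero] at hv
      exact hx hv.symm
    · rw [traceForm_apply, normQ_apply, hv, hxa]

end Cfsg.Agent.H93.CJ
end

-- part: H93/CJ/OOdd
section
/-!
# The row of the orthogonal groups in odd dimension (for S4792)
-/

set_option autoImplicit false

namespace Cfsg.Agent.H93.CJ

open Module QuadraticMap Cfsg Cfsg.Agent.H430.Conj
open Cfsg.Agent.LieClassical.OrthCore Cfsg.Agent.LieClassical.OrthTrans Cfsg.Agent.LieClassical.OrthForms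
open Cfsg.Agent.LieClassical.OrthFinite
open Cfsg.Agent.H122.OrthWt Cfsg.Agent.H122.OrthIso Cfsg.Agent.H122.OrthRep
open Cfsg.Agent.H182.Sign Cfsg.Agent.H890.SpParity Cfsg.Agent.H160.QSpin Cfsg.Agent.H160.QDisc

universe v

section neg

variable {F W : Type*} [Field F] [AddCommGroup W] [Module F W] [FiniteDimensional F W]

/-- In odd dimension `- sg y` is not in `E`. -/
theorem not_neg {Q : QuadraticForm F W} (hQ : Nondeg Q) (h2 : (2 : F) ≠ 0) (hd : Odd (finrank F W))
    {c : (W × F × F) ≃ₗ[F] (W × F × F)} (hc : c ∈ E (HQ Q)) {y : W} (h : ∀ v, c v = - sg Q y v) : False := by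
  have h1 := even_E (nondeg_HQ Q hQ) hc
  have hV : finrank F (W × F × F) = finrank F W + 2 := by
    rw [finrank_prod, finrank_prod, finrank_self]
  have hfix : fix c = ⊥ := by
    rw [eq_bot_iff]
    rintro ⟨w, x, z⟩ hv
    rw [mem_fix, h, sg_apply] at hv
    have h3 : z = 0 := by
      have h4 : -z = z := congrArg (fun v : W × F × F => v.2.2) hv
      have h5 : 2 * z = 0 := by linear_combination -h4
      exact (mul_eq_zero.1 h5).resolve_left h2
    subst h3
    have h6 : w = 0 := by
      have h4 : -(w + (0 : F) • y) = w := congrArg (fun v : W × F × F => v.1) hv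
      rw [zero_smul, add_zero] at h4
      have h5 : (2 : F) • w = 0 := by
        rw [two_smul]
        nth_rewrite 1 [← h4]
        exact neg_add_cancel w
      exact (smul_eq_zero.1 h5).resolve_left h2
    subst h6
    have h7 : x = 0 := by
      have h4 : -(x - polar Q y 0 - Q y * 0) = x := congrArg (fun v : W × F × F => v.2.1) hv
      rw [polar_zero_right] at h4
      have h5 : 2 * x = 0 := by linear_combination -h4
      exact (mul_eq_zero.1 h5).resolve_left h2
    subst h7
    rfl
  rw [hfix, finrank_bot, hV] at h1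
  obtain ⟨r, hr⟩ := hd
  obtain ⟨s, hs⟩ := h1
  omega

end neg

/-- **Row `Ω_{2m+1}`**, up to isomorphism -/
theorem row_oodd_equiv {F : Type} [Field F] [Fintype F] (hodd : Odd (Fintype.card F)) {m : ℕ} (hm : 3 ≤ m)
    {S : Type v} [Group S] (i : POmega F (quadFormOdd m F) ≃* S) : Row S := by
  have h2 : (2 : F) ≠ 0 := by
    intro h
    have h3 : CharP F 2 := CharTwo.of_one_ne_zero_of_two_eq_zero one_ne_zero h
    have h4 := FiniteField.even_card_of_char_two (ringChar.eq_iff.2 h3)
    exact (Nat.not_even_iff_odd.2 hodd) (Nat.even_iff.2 h4)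
  obtain ⟨k, rfl⟩ : ∃ k, m = k + 1 := ⟨m - 1, by omega⟩
  rw [← coe_oddForm] at i
  obtain ⟨L, _, _, _, QU, u, hs, hu0, hu, hcomm, hns, hval⟩ := exists_torus F (k := k) (by omega)
  have hfin : FiniteDimensional F L := Module.Finite.of_finite
  have hd : finrank F L = 2 * k := hs.dim
  set Q : QuadraticForm F (L × F) := QU.prod (oneF 1) with hQdef
  have hQa : ∀ (l : L) (t : F), Q (l, t) = QU l + t * t := by
    intro l t
    rw [hQdef, QuadraticMap.prod_apply, oneF_apply, one_mul]
  have hQ : Nondeg Q := nondeg_prod hs.nondeg (nondeg_oneF h2 one_ne_zero)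
  have hW : finrank F (L × F) = 2 * k + 1 := by
    rw [finrank_prod, finrank_self, hd]
  have hV : finrank F ((L × F) × F × F) = finrank F (L × F) + 2 := by
    rw [finrank_prod, finrank_prod, finrank_prod, finrank_self]
  have hGH : Good (HQ Q) := good_of_finite (nondeg_HQ Q hQ) (by omega)
  have hG : Good Q := good_of_finite hQ (by omega)
  have hRn : Nondeg (oddForm (k + 1) F) := nondeg_oddForm (k + 1) F h2
  have hRd : finrank F (Unit ⊕ (Fin (k + 1) ⊕ Fin (k + 1)) → F) = 2 * (k + 1) + 1 := by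
    rw [finrank_fintype_fun_eq_card]
    simp only [Fintype.card_sum, Fintype.card_fin, Fintype.card_unit]
    omega
  obtain ⟨d, e, hd0, he⟩ := Cfsg.Agent.H377.exists_similar_odd (m := k + 1) (show finrank F ((L × F) × F × F) = _ by omega)
    (HQ Q) (nondeg_HQ Q hQ)
  obtain ⟨π, hπ, hker⟩ := exists_pi (R := oddForm (k + 1) F) (Q := HQ Q) (c := d)
    (good_of_finite hRn (by omega)) (good_of_finite (nondeg_smul hRn hd0) (by omega)) e hd0 he hGH i
  refine row_orth hQ hGH (transN_of_good Q hG) π hπ ?_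
  intro l0 hl0
  obtain ⟨l1, hl1, hQl1⟩ := hval (Q l0)
  set v0 : L × F := (0, 1) with hv0
  set g0 : (L × F) ≃ₗ[F] (L × F) := (mulL F u hu0).prodCongr (LinearEquiv.refl F F) with hg0
  have hg0a : ∀ (w : L) (t : F), g0 (w, t) = (u * w, t) := fun w t => rfl
  have hg0O : g0 ∈ O Q := mem_O.2 fun v => by
    obtain ⟨w, t⟩ := v
    rw [hg0a, hQa, hQa, hu]
  have hgE : _root_.Cfsg.Agent.H122.OrthWt.ext g0 * _root_.Cfsg.Agent.H122.OrthWt.ext g0 ∈ E (HQ Q) := ETable.Orth.sq_mem_E hGH (ext_mem_O Q hg0O)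
  refine ⟨sE Q v0 * ⟨_, hgE⟩, (l1, 0), ?_, ?_, ?_⟩
  · intro h
    exact hl1 (congrArg Prod.fst h)
  · rw [hQa, mul_zero, add_zero, hQl1]
  intro c hcx
  obtain ⟨ζ, hζ⟩ := comm_scalar hker hcx
  set τ : L := u * u with hτ
  have hτ1 : τ ≠ 1 := by
    have := hns 1
    rwa [map_one] at this
  have hpol0 : ∀ (w : L) (t : F), polar Q v0 (w, t) = 2 * t := by
    intro w t
    rw [polar, hv0, Prod.mk_add_mk, hQa, hQa, hQa, zero_add, QuadraticMap.map_zero]
    ring
  have hQv0 : Q v0 = 1 := by rw [hv0, hQa, QuadraticMap.map_zero]; ring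
  -- the action of `x`
  have hx : ∀ (w : L) (t p q : F), ((sE Q v0 * ⟨_, hgE⟩ : E (HQ Q)) : ((L × F) × F × F) ≃ₗ[F] ((L × F) × F × F))
      ((w, t), p, q) = ((τ * w, t + q), p - 2 * t - q, q) := by
    intro w t p q
    show sg Q v0 ((u * (u * w), t), p, q) = _
    rw [sg_apply, hpol0, hQv0]
    ext
    · simp [hv0, hτ, mul_assoc]
    · simp [hv0]
    · simp
    · simp
  have hx' : ∀ v, ((sE Q v0 * ⟨_, hgE⟩ : E (HQ Q)) : ((L × F) × F × F) ≃ₗ[F] ((L × F) × F × F)) v =
      ((τ * v.1.1, v.1.2 + v.2.2), v.2.1 - 2 * v.1.2 - v.2.2, v.2.2) := by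
    rintro ⟨⟨w, t⟩, p, q⟩
    exact hx w t p q
  simp only [hx'] at hζ
  obtain ⟨c1, hc1⟩ : ∃ c1, c1 = (c : ((L × F) × F × F) ≃ₗ[F] ((L × F) × F × F)) := ⟨_, rfl⟩
  simp only [← hc1] at hζ
  have hc1E : c1 ∈ E (HQ Q) := hc1 ▸ c.2
  have hc1O : c1 ∈ O (HQ Q) := E_le_O hc1E
  -- the image of `e0`
  obtain ⟨⟨⟨w, t⟩, p, q⟩, hce⟩ : ∃ z, z = c1 (e0 F (L × F)) := ⟨_, rfl⟩
  have hne : c1 (e0 F (L × F)) ≠ 0 := by
    rw [Ne, LinearEquiv.map_eq_zero_iff]
    intro h
    exact one_ne_zero (congrArg (fun v : (L × F) × F × F => v.2.1) h)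
  have hee : ((w, t), p, q) = ζ • ((τ * w, t + q), p - 2 * t - q, q) := by
    have h1 := hζ (e0 F (L × F))
    rw [← hce] at h1
    have h3 : (((τ * (0 : L × F).1, (0 : L × F).2 + 0), 1 - 2 * (0 : L × F).2 - 0, 0) : (L × F) × F × F) =
        e0 F (L × F) := by
      ext <;> simp
    change c1 ((τ * (0 : L × F).1, (0 : L × F).2 + 0), 1 - 2 * (0 : L × F).2 - 0, 0) = _ at h1
    rw [h3, ← hce] at h1
    exact h1
  have hw : w = ζ • (τ * w) := congrArg (fun v : (L × F) × F × F => v.1.1) hee
  have ht : t = ζ * (t + q) := congrArg (fun v : (L × F) × F × F => v.1.2) hee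
  have hp : p = ζ * (p - 2 * t - q) := congrArg (fun v : (L × F) × F × F => v.2.1) hee
  have hq : q = ζ * q := congrArg (fun v : (L × F) × F × F => v.2.2) hee
  have hw0 : w = 0 := by
    by_contra h0
    rw [Algebra.smul_def, ← mul_assoc] at hw
    have h3 : algebraMap F L ζ * τ = 1 := by
      apply mul_right_cancel₀ h0
      rw [← hw, one_mul]
    apply hns ζ⁻¹
    rw [map_inv₀]
    exact eq_inv_of_mul_eq_one_right h3
  subst hw0
  have hζ1 : ζ = 1 := by
    by_contra h0
    have h3 : 1 - ζ ≠ 0 := sub_ne_zero.2 (Ne.symm h0)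
    have hq0 : q = 0 := (mul_eq_zero.1 (show (1 - ζ) * q = 0 by linear_combination hq)).resolve_left h3
    subst hq0
    have ht0 : t = 0 := (mul_eq_zero.1 (show (1 - ζ) * t = 0 by linear_combination ht)).resolve_left h3
    subst ht0
    have hp0 : p = 0 := (mul_eq_zero.1 (show (1 - ζ) * p = 0 by linear_combination hp)).resolve_left h3
    subst hp0
    exact hne hce.symm
  subst hζ1
  have hq0 : q = 0 := by linear_combination -ht
  subst hq0
  have ht0 : t = 0 := (mul_eq_zero.1 (show 2 * t = 0 by linear_combination hp)).resolve_left h2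
  subst ht0
  have hp0 : p ≠ 0 := by
    rintro rfl
    exact hne hce.symm
  have he0 : c1 (e0 F (L × F)) = p • e0 F (L × F) := by
    rw [← hce]
    ext <;> simp only [_root_.Prod.smul_mk, _root_.smul_zero, _root_.smul_eq_mul, _root_.mul_one, _root_.MulZeroClass.mul_zero, _root_.Prod.fst_zero, _root_.Prod.snd_zero]
  obtain ⟨s, hsO, y, hsy, hconj⟩ := exists_decomp Q hc1O hp0 he0
  simp only [one_smul] at hζ
  -- the action of `s`
  have hsτ : ∀ (l : L) (t : F), s (τ * l, t) = (τ * (s (l, t)).1, (s (l, t)).2) := by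
    intro l t
    have h1 := hζ ((l, t), 0, 0)
    rw [hsy, hsy, sg_apply, sg_apply] at h1
    have h3 := congrArg (fun v : (L × F) × F × F => v.1) h1
    simpa using h3
  have hs2 : ∀ l : L, (s (l, 0)).2 = 0 := by
    intro l
    have h1 : (s ((τ - 1) * ((τ - 1)⁻¹ * l), 0)).2 = 0 := by
      have h3 : (((τ - 1) * ((τ - 1)⁻¹ * l), 0) : L × F) = (τ * ((τ - 1)⁻¹ * l), 0) - ((τ - 1)⁻¹ * l, 0) := by
        ext
        · simp [sub_mul]
        · simp
      rw [h3, map_sub, hsτ]
      exact sub_self _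
    rwa [← mul_assoc, mul_inv_cancel₀ (sub_ne_zero.2 hτ1), one_mul] at h1
  have hs1 : (s (0, 1)).1 = 0 := by
    have h1 := congrArg Prod.fst (hsτ 0 1)
    rw [mul_zero] at h1
    change (s (0, 1)).1 = τ * (s (0, 1)).1 at h1
    have h3 : (τ - 1) * (s (0, 1)).1 = 0 := by
      rw [sub_mul, ← h1, one_mul, sub_self]
    exact (mul_eq_zero.1 h3).resolve_left (sub_ne_zero.2 hτ1)
  obtain ⟨σ, hσ⟩ := hcomm ((LinearMap.fst F L F).comp (s.toLinearMap.comp (LinearMap.inl F L F)))
    (fun v => congrArg Prod.fst (hsτ v 0))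
  obtain ⟨α, hα⟩ : ∃ α, α = (s (0, 1)).2 := ⟨_, rfl⟩
  have hsl : ∀ l : L, s (l, 0) = (σ * l, 0) := fun l => Prod.ext (hσ l) (hs2 l)
  have hs01 : s (0, 1) = (0, α) := Prod.ext hs1 hα.symm
  have hsa : ∀ (l : L) (t : F), s (l, t) = (σ * l, t * α) := by
    intro l t
    have h3 : ((l, t) : L × F) = (l, 0) + t • (0, 1) := by
      ext <;> simp
    rw [h3, map_add, map_smul, hsl, hs01]
    ext <;> simp
  have hα2 : α * α = 1 := by
    have h1 := mem_O.1 hsO (0, 1)
    rw [hs01, hQa, hQa, QuadraticMap.map_zero, zero_add, zero_add, mul_one] at h1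
    exact h1
  obtain ⟨y1, y2⟩ := y
  have hf := congrArg (fun v : (L × F) × F × F => v.1) (hζ (f0 F (L × F)))
  rw [hsy, hsy, sg_apply, sg_apply] at hf
  have hf1 := congrArg Prod.fst hf
  have hf2 := congrArg Prod.snd hf
  simp only [hsa, _root_.Prod.fst_zero, _root_.MulZeroClass.mul_zero, _root_.Prod.snd_zero, _root_.zero_add, _root_.one_mul, _root_.mul_one, _root_.Prod.smul_mk, _root_.smul_eq_mul, _root_.Prod.mk_add_mk, _root_.MulZeroClass.zero_mul, _root_.Algebra.mul_smul_comm] at hf1 hf2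
  have hpi : p⁻¹ ≠ 0 := inv_ne_zero hp0
  have hy1 : y1 = 0 := by
    have h3 : y1 = τ * y1 := smul_right_injective L hpi hf1
    have h4 : (τ - 1) * y1 = 0 := by
      rw [sub_mul, ← h3, one_mul, sub_self]
    exact (mul_eq_zero.1 h4).resolve_left (sub_ne_zero.2 hτ1)
  subst hy1
  have hαp : α = p⁻¹ := by linear_combination hf2
  have hpp : p * p = 1 := by
    rw [hαp] at hα2
    field_simp at hα2
    rw [← pow_two, ← hα2]
  have hpip : p⁻¹ = p := (eq_inv_of_mul_eq_one_right hpp).symm
  have hcc : ∀ w : L × F, c * sE Q w = sE Q (p • s w) * c := by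
    intro w
    apply Subtype.ext
    have := hconj w
    rw [hc1] at this
    exact this
  refine ⟨p, hp0, s, hsO, hcc, ?_⟩
  intro hfix
  have hσp : σ = algebraMap F L p := by
    rw [hsl, inv_smul_eq_iff₀ hp0] at hfix
    have h3 := congrArg Prod.fst hfix
    change σ * l1 = p • l1 at h3
    rw [Algebra.smul_def] at h3
    exact mul_right_cancel₀ hl1 h3
  have hsp : ∀ w : L × F, s w = p • w := by
    rintro ⟨l, t⟩
    rw [hsa, hσp, hαp, hpip, ← Algebra.smul_def]
    ext
    · rfl
    · exact mul_comm _ _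
  have hcp : ∀ v, c1 v = p • sg Q (0, y2) v := by
    rintro ⟨w, x, z⟩
    rw [hsy, hsp, hpip, ← map_smul]
    rfl
  have hp1 : p = 1 ∨ p = -1 := mul_self_eq_one_iff.1 hpp
  rcases hp1 with hp1 | hp1
  · refine ⟨1, Subgroup.one_mem _, (0, y2), ?_, ?_⟩
    · rw [polar, Prod.mk_add_mk, hQa, hQa, hQa, add_zero, zero_add, QuadraticMap.map_zero]
      ring
    · rw [one_mul]
      apply Subtype.ext
      ext1 v
      have h3 := hcp v
      rw [hp1, one_smul, hc1] at h3
      exact h3
  · exfalso
    refine not_neg (c := c1) (y := (0, y2)) hQ h2 ⟨k, hW⟩ hc1E ?_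
    intro v
    rw [hcp, hp1, neg_one_smul]

/-- **Row `Ω_{2m+1}(q)`** (S4792) -/
theorem row_of_isPOmegaOdd {S : Type v} [Group S] (h : IsPOmegaOdd S) : Row S := by
  obtain ⟨F, _, _, m, hm, hodd, ⟨e⟩⟩ := h
  exact row_oodd_equiv hodd hm e.symm

end Cfsg.Agent.H93.CJ
end
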